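import Groth.Agent.MonoQuotLib.QuotGrp
import Groth.Agent.FlatLib.FibreFlatScheme
import Groth.Agent.S0114
import Groth.Prelude.Def_RedSub

/-!
# The quotient of a quotient
-/

set_option autoImplicit false
set_option backward.isDefEq.respectTransparency false
set_option linter.style.haveILetI false
set_option linter.unusedSectionVars false
set_option synthInstance.maxHeartbeats 400000

universe u

open CategoryTheory CategoryTheory.Limits MonoidalCategory CartesianMonoidalCategory AlgebraicGeometry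
open scoped MonObj

noncomputable section

attribute [-instance] CategoryTheory.Hom.commGroup

namespace Groth.Agent.QuotThird

open Groth.Agent.MonoQuot (IsCov coset_iff)

variable {S : Scheme.{u}} {H K G QH Kb : Over S} [GrpObj H] [GrpObj K] [GrpObj G]
  (h : H ⟶ K) (k : K ⟶ G) {qH : G ⟶ QH} {qKb : K ⟶ Kb} (act : QH ⊗ Kb ⟶ QH)

theorem act_pts (hact : (qH ⊗ₘ qKb) ≫ act = (G ◁ k) ≫ μ[G] ≫ qH) {T : Over S} (g : T ⟶ G) (x : T ⟶ K) :
    lift (g ≫ qH) (x ≫ qKb) ≫ act = (g * (x ≫ k)) ≫ qH := by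
  rw [← lift_map, Category.assoc, hact, lift_whiskerLeft_assoc, ← Category.assoc (lift g (x ≫ k)), ← Hom.mul_def]

/-- The data of the statement, with the covers spelled out. -/
structure Data : Prop where
  covH : IsCov qH.left
  covK : IsCov qKb.left
  relH : ∀ {T : Over S} (a b : T ⟶ G), a ≫ qH = b ≫ qH ↔ ∃ z : T ⟶ H, a * (z ≫ h ≫ k) = b
  relK : ∀ {T : Over S} (a b : T ⟶ K), a ≫ qKb = b ≫ qKb ↔ ∃ z : T ⟶ H, a * (z ≫ h) = b
  act : ∀ {T : Over S} (g : T ⟶ G) (x : T ⟶ K), lift (g ≫ qH) (x ≫ qKb) ≫ act = (g * (x ≫ k)) ≫ qH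

variable {h k act}

/-- A point and a translate of it determine the translating point. -/
theorem act_cancel [Mono k] [IsMonHom k] (D : Data h k (qH := qH) (qKb := qKb) act) {T : Over S} (u : T ⟶ QH)
    (w w' : T ⟶ Kb) (e : lift u w ≫ act = lift u w' ≫ act) : w = w' := by
  obtain ⟨T₁, c₁, g, hc₁, hg⟩ := D.covH.exists_lift u
  obtain ⟨T₂, c₂, x, hc₂, hx⟩ := D.covK.exists_lift (c₁ ≫ w)
  obtain ⟨T₃, c₃, x', hc₃, hx'⟩ := D.covK.exists_lift (c₂ ≫ c₁ ≫ w')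
  haveI := hc₁.epi_over
  haveI := hc₂.epi_over
  haveI := hc₃.epi_over
  rw [← cancel_epi c₁, ← cancel_epi c₂, ← cancel_epi c₃]
  have e1 : (c₃ ≫ x) ≫ qKb = c₃ ≫ c₂ ≫ c₁ ≫ w := by rw [Category.assoc, hx]
  have eg : (c₃ ≫ c₂ ≫ g) ≫ qH = c₃ ≫ c₂ ≫ c₁ ≫ u := by rw [Category.assoc, Category.assoc, hg]
  have e2 : ((c₃ ≫ c₂ ≫ g) * ((c₃ ≫ x) ≫ k)) ≫ qH = ((c₃ ≫ c₂ ≫ g) * (x' ≫ k)) ≫ qH := by
    rw [← D.act, ← D.act, e1, hx', eg]
    simp only [← comp_lift, Category.assoc, e]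
  obtain ⟨z, hz⟩ := (D.relH _ _).1 e2
  rw [mul_assoc, mul_right_inj, ← Category.assoc z h k, ← MonObj.mul_comp, cancel_mono] at hz
  rw [← e1, ← hx', D.relK]
  exact ⟨z, hz⟩

/-- Translates exist locally, hence globally. -/
theorem exists_translate [Mono k] [IsMonHom k] (D : Data h k (qH := qH) (qKb := qKb) act) {T T' : Over S}
    (c : T' ⟶ T) (hc : IsCov c.left) (u v : T ⟶ QH) (w : T' ⟶ Kb) (hw : lift (c ≫ u) w ≫ act = c ≫ v) :
    ∃ w₀ : T ⟶ Kb, lift u w₀ ≫ act = v := by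
  obtain ⟨w₀, hw₀⟩ := hc.exists_desc w fun T'' a b e => by
    refine act_cancel D (a ≫ c ≫ u) _ _ ?_
    have h1 := congrArg (a ≫ ·) hw
    have h2 := congrArg (b ≫ ·) hw
    simp only [comp_lift_assoc] at h1 h2
    rw [h1, reassoc_of% e, reassoc_of% e, h2]
  haveI := hc.epi_over
  refine ⟨w₀, ?_⟩
  rw [← cancel_epi c, comp_lift_assoc, hw₀, hw]

/-- The map between the quotients is a torsor. -/
theorem isPullback_qbar [Mono k] [IsMonHom k] (D : Data h k (qH := qH) (qKb := qKb) act) {QK : Over S} {qK : G ⟶ QK}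
    (relQ : ∀ {T : Over S} (a b : T ⟶ G), a ≫ qK = b ≫ qK ↔ ∃ x : T ⟶ K, a * (x ≫ k) = b) (qbar : QH ⟶ QK)
    (hq : qH ≫ qbar = qK) : IsPullback (fst QH Kb) act qbar qbar := by
  have w : fst QH Kb ≫ qbar = act ≫ qbar := by
    obtain ⟨T₁, c₁, g, hc₁, hg⟩ := D.covH.exists_lift (fst QH Kb)
    obtain ⟨T₂, c₂, x, hc₂, hx⟩ := D.covK.exists_lift (c₁ ≫ snd QH Kb)
    haveI := hc₁.epi_over
    haveI := hc₂.epi_over
    rw [← cancel_epi c₁, ← cancel_epi c₂]
    have e : c₂ ≫ c₁ ≫ act = ((c₂ ≫ g) * (x ≫ k)) ≫ qH := by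
      rw [← D.act, Category.assoc, hg, hx, ← comp_lift, ← comp_lift, lift_fst_snd, Category.comp_id, Category.assoc]
    rw [← Category.assoc c₁, ← hg, Category.assoc, hq, ← Category.assoc c₁ act qbar, ← Category.assoc c₂ _ qbar, e,
      Category.assoc, hq, ← Category.assoc, relQ]
    exact ⟨x, rfl⟩
  have hex : ∀ s : PullbackCone qbar qbar, ∃ w₀ : s.pt ⟶ Kb, lift s.fst w₀ ≫ act = s.snd := fun s => by
    obtain ⟨T₁, c₁, g, hc₁, hg⟩ := D.covH.exists_lift s.fst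
    obtain ⟨T₂, c₂, g', hc₂, hg'⟩ := D.covH.exists_lift (c₁ ≫ s.snd)
    have e : (c₂ ≫ g) ≫ qK = g' ≫ qK := by
      rw [← hq, ← Category.assoc, ← Category.assoc, Category.assoc c₂, hg, hg', Category.assoc, Category.assoc,
        Category.assoc, Category.assoc, s.condition]
    obtain ⟨x, hx⟩ := (relQ _ _).1 e
    obtain ⟨w₁, hw₁⟩ := exists_translate D c₂ hc₂ (c₁ ≫ s.fst) (c₁ ≫ s.snd) (x ≫ qKb)
      (by rw [← hg, ← hg', ← Category.assoc, D.act, hx])
    exact exists_translate D c₁ hc₁ s.fst s.snd w₁ hw₁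
  choose w₀ hw₀ using hex
  refine IsPullback.mk ⟨w⟩ ⟨PullbackCone.IsLimit.mk _ (fun s => lift s.fst (w₀ s)) (fun s => lift_fst _ _) hw₀
    (fun s m h1 h2 => ?_)⟩
  refine CartesianMonoidalCategory.hom_ext _ _ (by rw [lift_fst]; exact h1) ?_
  rw [lift_snd]
  refine act_cancel D s.fst _ _ ?_
  rw [hw₀, ← h2, ← h1, ← comp_lift, lift_fst_snd, Category.comp_id]

/-- A quotient of the quotient is a quotient. -/
theorem rel_comp [Mono k] [IsMonHom k] (D : Data h k (qH := qH) (qKb := qKb) act) {Y : Over S} {p : QH ⟶ Y}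
    (sq : IsPullback (fst QH Kb) act p p) {T : Over S} (a b : T ⟶ G) :
    a ≫ qH ≫ p = b ≫ qH ≫ p ↔ ∃ x : T ⟶ K, a * (x ≫ k) = b := by
  constructor
  · intro e
    rw [← Category.assoc, ← Category.assoc] at e
    let w := sq.lift (a ≫ qH) (b ≫ qH) e
    obtain ⟨T₁, c, x, hc, hx⟩ := D.covK.exists_lift (w ≫ snd QH Kb)
    have e1 : ((c ≫ a) * (x ≫ k)) ≫ qH = (c ≫ b) ≫ qH := by
      have ew : lift (a ≫ qH) (w ≫ snd QH Kb) ≫ act = b ≫ qH := by
        rw [← sq.lift_fst (a ≫ qH) (b ≫ qH) e, ← comp_lift, lift_fst_snd, Category.comp_id, sq.lift_snd]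
      rw [← D.act, hx, Category.assoc, ← comp_lift_assoc, ew, Category.assoc]
    obtain ⟨z, hz⟩ := (D.relH _ _).1 e1
    rw [mul_assoc, ← Category.assoc z h k, ← MonObj.mul_comp] at hz
    obtain ⟨x₀, hx₀⟩ := hc.exists_desc (x * (z ≫ h)) fun T' p' q' e' => by
      have h1 := congrArg (p' ≫ ·) hz
      have h2 := congrArg (q' ≫ ·) hz
      simp only [MonObj.comp_mul, ← Category.assoc p', ← Category.assoc q', e'] at h1 h2
      rw [← cancel_mono k, ← mul_right_inj ((q' ≫ c) ≫ a)]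
      simp only [MonObj.comp_mul, Category.assoc, MonObj.mul_comp] at h1 h2 ⊢
      rw [h1, h2]
    haveI := hc.epi_over
    refine ⟨x₀, ?_⟩
    rw [← cancel_epi c, MonObj.comp_mul, ← Category.assoc c x₀, hx₀, hz]
  · rintro ⟨x, rfl⟩
    rw [← Category.assoc (a * (x ≫ k)), ← D.act, Category.assoc, ← sq.w, lift_fst_assoc, Category.assoc]

/-- The pullback square of a map whose fibres are the cosets of a subgroup. -/
theorem isPullback_of_rel {G N Q : Over S} [GrpObj G] (n : N ⟶ G) [Mono n] (q : G ⟶ Q)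
    (hrel : ∀ {T : Over S} (a b : T ⟶ G), a ≫ q = b ≫ q ↔ ∃ z : T ⟶ N, a * (z ≫ n) = b) :
    IsPullback (fst G N) ((G ◁ n) ≫ μ[G]) q q := by
  have hμ : (G ◁ n) ≫ μ[G] = fst G N * (snd G N ≫ n) := by
    rw [MonObj.mul_eq_mul, MonObj.comp_mul]
    simp
  rw [hμ]
  have w : fst G N ≫ q = (fst G N * (snd G N ≫ n)) ≫ q := (hrel _ _).2 ⟨snd G N, rfl⟩
  have hz : ∀ s : PullbackCone q q, ∃ z : s.pt ⟶ N, s.fst * (z ≫ n) = s.snd :=
    fun s => (hrel _ _).1 s.condition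
  choose z hz using hz
  refine IsPullback.mk ⟨w⟩ ⟨PullbackCone.IsLimit.mk _ (fun s => lift s.fst (z s)) (fun s => lift_fst _ _)
    (fun s => ?_) (fun s m' h1 h2 => ?_)⟩
  · rw [MonObj.comp_mul, lift_fst, lift_snd_assoc, hz]
  · refine CartesianMonoidalCategory.hom_ext _ _ (by rw [lift_fst]; exact h1) ?_
    rw [lift_snd, ← cancel_mono n, ← mul_right_inj s.fst, hz, ← h2, MonObj.comp_mul, h1, Category.assoc]

end Groth.Agent.QuotThird
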